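import Cfsg.Agent.Lib.AltEightSylow.Basic
import Cfsg.Agent.Lib.Golay.OctadStab
import Cfsg.Agent.S5425

/-!
Sylow 2-subgroups of M24: they stabilise an octad, are self-normalising, and have no proper nontrivial
subgroup closed under conjugation in M24.
-/

set_option autoImplicit false

open scoped Pointwise
open Cfsg MulAction Cfsg.Agent.Golay

namespace Cfsg.Agent.M24SylowTwo

theorem smul_iff {x : ↥M24} {o : Finset GolayPt} :
    x ∈ stabilizer ↥M24 o ↔ (x : Equiv.Perm GolayPt) • o = o := Iff.rfl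

theorem apply_mem_iff {x : ↥M24} {o : Finset GolayPt} (hx : x ∈ stabilizer ↥M24 o) (p : GolayPt) :
    (x : Equiv.Perm GolayPt) p ∈ o ↔ p ∈ o :=
  mem_iff_of_mem_octadStab ⟨x.2, hx⟩ p

/-- The pointwise stabiliser of an octad inside M24. -/
def fixO (o : Finset GolayPt) : Subgroup ↥M24 := (octadFix o).subgroupOf M24

theorem mem_fixO {o : Finset GolayPt} {x : ↥M24} :
    x ∈ fixO o ↔ ∀ p ∈ o, (x : Equiv.Perm GolayPt) p = p := by
  rw [fixO, Subgroup.mem_subgroupOf, mem_octadFix]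
  exact ⟨fun h => h.2, fun h => ⟨x.2, h⟩⟩

theorem natCard_fixO {o : Finset GolayPt} (ho : o ∈ octads) : Nat.card (fixO o) = 16 := by
  rw [fixO, Nat.card_congr (Subgroup.subgroupOfEquivOfLe (inf_le_left)).toEquiv, natCard_octadFix ho]

theorem fixO_le {o : Finset GolayPt} : fixO o ≤ stabilizer ↥M24 o := fun x hx => by
  rw [smul_iff, smul_eq_image, Finset.image_congr (f := (x : Equiv.Perm GolayPt)) (g := id)
    fun p hp => mem_fixO.1 hx p (Finset.mem_coe.1 hp), Finset.image_id]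

theorem fixO_comm {o : Finset GolayPt} (ho : o ∈ octads) {a b : ↥M24} (ha : a ∈ fixO o)
    (hb : b ∈ fixO o) : a * b = b * a := by
  have hsq : ∀ {c : ↥M24}, c ∈ fixO o → c * c = 1 := fun hc => Subtype.ext (mul_self_octadFix ho hc)
  have h := hsq (mul_mem ha hb)
  rw [← inv_eq_of_mul_eq_one_right h, mul_inv_rev, inv_eq_of_mul_eq_one_right (hsq ha),
    inv_eq_of_mul_eq_one_right (hsq hb)]

theorem conj_fixO {o : Finset GolayPt} {h x : ↥M24} (hh : h ∈ stabilizer ↥M24 o) (hx : x ∈ fixO o) :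
    h * x * h⁻¹ ∈ fixO o := mem_fixO.2 fun p hp => by
  have hp' : ((h⁻¹ : ↥M24) : Equiv.Perm GolayPt) p ∈ o := (apply_mem_iff (inv_mem hh) p).2 hp
  simp only [Subgroup.coe_mul, InvMemClass.coe_inv, Equiv.Perm.mul_apply] at hp' ⊢
  rw [mem_fixO.1 hx _ hp', Equiv.Perm.coe_inv, Equiv.apply_symm_apply]

/-- A subgroup of the pointwise stabiliser invariant under the stabiliser of the octad is trivial or
everything. -/
theorem fixO_minimal {o : Finset GolayPt} (ho : o ∈ octads) {F : Subgroup ↥M24} (hF : F ≤ fixO o)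
    (hinv : ∀ h ∈ stabilizer ↥M24 o, ∀ x ∈ F, h * x * h⁻¹ ∈ F) (hne : F ≠ ⊥) : F = fixO o := by
  classical
  by_contra hne'
  obtain ⟨p0, hp0⟩ : ∃ p0, p0 ∉ o := by
    by_contra! h
    have h8 := ho.2
    rw [Finset.eq_univ_iff_forall.mpr h, Finset.card_univ] at h8
    exact absurd h8 (by decide)
  let M : Subgroup ↥M24 :=
    (octadStab o ⊓ stabilizer (Equiv.Perm GolayPt) p0).subgroupOf M24
  have hMle : M ≤ stabilizer ↥M24 o := fun x hx => hx.1.2
  have e : M ≃* alternatingGroup ↥o :=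
    (Subgroup.subgroupOfEquivOfLe (inf_le_left.trans inf_le_left)).trans (octadPointEquiv ho hp0)
  have ho8 : Fintype.card ↥o = 8 := by rw [Fintype.card_coe]; exact ho.2
  have : IsSimpleGroup (alternatingGroup ↥o) :=
    alternatingGroup.isSimpleGroup (by rw [Nat.card_eq_fintype_card, ho8]; norm_num)
  have : IsSimpleGroup M := e.isSimpleGroup
  have hMcard : Nat.card M = 20160 := by
    rw [Nat.card_congr e.toEquiv]
    have : Nontrivial ↥o := Fintype.one_lt_card_iff_nontrivial.mp (by omega)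
    have h := two_mul_card_alternatingGroup (α := ↥o)
    rw [Fintype.card_perm, ho8] at h
    rw [Nat.card_eq_fintype_card]
    norm_num [Nat.factorial, ← Nat.card_eq_fintype_card] at h ⊢
    omega
  -- a trivial action on the small subgroup
  have hdvd : Nat.card F ∣ 16 := natCard_fixO ho ▸ Subgroup.card_dvd_of_le hF
  have hlt : Nat.card F ≤ 8 := by
    have hne16 : Nat.card F ≠ 16 := fun h =>
      hne' (Subgroup.eq_of_le_of_card_ge hF (by rw [natCard_fixO ho, h]))
    have hle : Nat.card F ≤ 16 := Nat.le_of_dvd (by norm_num) hdvd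
    by_contra hc
    interval_cases hk : Nat.card F <;> simp_all (config := { decide := true })
  let act : M →* Equiv.Perm {x : F // x ≠ 1} :=
    { toFun := fun m =>
        { toFun := fun x => ⟨⟨(m : ↥M24) * (x.1 : ↥M24) * (m : ↥M24)⁻¹,
            hinv _ (hMle m.2) _ x.1.2⟩, fun h => x.2 (Subtype.ext (by
              have := congrArg Subtype.val h
              simpa using this))⟩
          invFun := fun x => ⟨⟨(m : ↥M24)⁻¹ * (x.1 : ↥M24) * (m : ↥M24), by
              simpa using hinv _ (inv_mem (hMle m.2)) _ x.1.2⟩, fun h => x.2 (Subtype.ext (by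
              have := congrArg Subtype.val h
              simpa [mul_assoc, inv_mul_eq_one, eq_comm] using this))⟩
          left_inv := fun x => Subtype.ext (Subtype.ext (by simp [mul_assoc]))
          right_inv := fun x => Subtype.ext (Subtype.ext (by simp [mul_assoc])) }
      map_one' := Equiv.ext fun x => Subtype.ext (Subtype.ext (by simp))
      map_mul' := fun a b => Equiv.ext fun x => Subtype.ext (Subtype.ext (by simp [mul_assoc])) }
  have htriv : act.ker = ⊤ := by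
    refine (act.normal_ker.eq_bot_or_eq_top).resolve_left fun h => ?_
    have h1 := Nat.card_le_card_of_injective act ((MonoidHom.ker_eq_bot_iff _).1 h)
    have h2 : Nat.card {x : F // x ≠ 1} ≤ 7 := by
      have := Finite.card_subtype_lt (p := fun x : F => x ≠ 1) (x := 1) (by simp)
      omega
    rw [hMcard, Nat.card_perm] at h1
    have h3 := (Nat.factorial_le h2).trans (show Nat.factorial 7 ≤ 5040 by decide)
    omega
  obtain ⟨u, huF, hu1⟩ := (F.bot_or_exists_ne_one).resolve_left hne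
  have hcu : ∀ m ∈ M, m * u = u * m := fun m hm => by
    have h1 : act ⟨m, hm⟩ = 1 := MonoidHom.mem_ker.1 (htriv ▸ trivial)
    have h2 := congrArg (fun x => ((x.1 : F) : ↥M24))
      (Equiv.Perm.ext_iff.1 h1 ⟨⟨u, huF⟩, fun h => hu1 (congrArg Subtype.val h)⟩)
    exact mul_inv_eq_iff_eq_mul.1 h2
  -- generators of the pointwise stabiliser, the first one being `u`
  obtain ⟨b, hb, hb'⟩ : ∃ b ∈ fixO o, b ∉ Subgroup.closure {u} := by
    by_contra! h
    have h1 := Subgroup.card_le_of_le (show fixO o ≤ Subgroup.closure {u} from h)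
    rw [natCard_fixO ho, ← Subgroup.zpowers_eq_closure, Nat.card_zpowers] at h1
    have : orderOf u ≤ 2 := orderOf_le_of_pow_eq_one two_pos
      (by rw [sq]; exact Subtype.ext (mul_self_octadFix ho (hF huF)))
    omega
  have hgrow : ∀ (A : Set ↥M24) (x : ↥M24), A ⊆ fixO o → x ∈ fixO o → x ∉ Subgroup.closure A →
      2 * Nat.card (Subgroup.closure A) ≤ Nat.card (Subgroup.closure (insert x A)) := by
    intro A x hA hx hxA
    have hle : Subgroup.closure A ≤ Subgroup.closure (insert x A) :=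
      Subgroup.closure_mono (Set.subset_insert _ _)
    obtain ⟨k, hk⟩ := Subgroup.card_dvd_of_le hle
    have hk1 : k ≠ 1 := fun h => hxA ((Subgroup.eq_of_le_of_card_ge hle
      (by rw [hk, h, mul_one])) ▸ Subgroup.subset_closure (Set.mem_insert _ _))
    have hk0 : k ≠ 0 := fun h => by
      rw [h, mul_zero] at hk
      exact Nat.card_pos.ne' hk
    rw [hk, mul_comm]
    exact Nat.mul_le_mul_left _ (by omega)
  have hsel : ∀ A : Set ↥M24, A ⊆ fixO o → Nat.card (Subgroup.closure A) ≥ 16 ∨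
      ∃ x ∈ fixO o, x ∉ Subgroup.closure A := by
    intro A hA
    by_contra! h
    have := Subgroup.card_le_of_le (show fixO o ≤ Subgroup.closure A from h.2)
    rw [natCard_fixO ho] at this
    omega
  have hbu : 4 ≤ Nat.card (Subgroup.closure ({b, u} : Set ↥M24)) := by
    have h1 := hgrow {u} b (by simpa using hF huF) hb hb'
    have : 2 ≤ Nat.card (Subgroup.closure ({u} : Set ↥M24)) := by
      rw [← Subgroup.zpowers_eq_closure, Nat.card_zpowers]
      exact (Nat.two_le_iff _).2 ⟨(orderOf_pos u).ne', fun h => hu1 (orderOf_eq_one_iff.1 h)⟩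
    omega
  obtain ⟨c, d, hc, hd, hgen⟩ : ∃ c d, c ∈ fixO o ∧ d ∈ fixO o ∧
      16 ≤ Nat.card (Subgroup.closure ({d, c, b, u} : Set ↥M24)) := by
    have hA : ({b, u} : Set ↥M24) ⊆ fixO o := by
      simp [Set.insert_subset_iff, hb, hF huF]
    rcases hsel _ hA with h | ⟨c, hc, hc'⟩
    · refine ⟨u, u, hF huF, hF huF, h.trans (Subgroup.card_le_of_le (Subgroup.closure_mono ?_))⟩
      intro x hx
      simp only [Set.mem_insert_iff, Set.mem_singleton_iff] at hx ⊢
      tauto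
    have h8 := hgrow _ _ hA hc hc'
    have hA' : ({c, b, u} : Set ↥M24) ⊆ fixO o := Set.insert_subset_iff.2 ⟨hc, hA⟩
    rcases hsel _ hA' with h | ⟨d, hd, hd'⟩
    · exact ⟨c, u, hc, hF huF, h.trans (Subgroup.card_le_of_le
        (Subgroup.closure_mono (fun x hx => by
          simp only [Set.mem_insert_iff, Set.mem_singleton_iff] at hx ⊢; tauto)))⟩
    refine ⟨c, d, hc, hd, ?_⟩
    have h16 := hgrow _ _ hA' hd hd'
    omega
  have hclose : Subgroup.closure ({d, c, b, u} : Set ↥M24) = fixO o := by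
    refine Subgroup.eq_of_le_of_card_ge ((Subgroup.closure_le _).2 ?_) (by rw [natCard_fixO ho]; exact hgen)
    simp [Set.insert_subset_iff, hb, hc, hd, hF huF]
  -- then the complement embeds in triples
  let f : M → fixO o × fixO o × fixO o := fun m =>
    (⟨_, conj_fixO (hMle m.2) hb⟩, ⟨_, conj_fixO (hMle m.2) hc⟩, ⟨_, conj_fixO (hMle m.2) hd⟩)
  have hinj : Function.Injective f := by
    intro m n hmn
    have h1 : ∀ y ∈ fixO o, ((m : ↥M24)⁻¹ * n) * y = y * ((m : ↥M24)⁻¹ * n) := by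
      rw [← hclose]
      intro y hy
      have hz : Subgroup.closure ({d, c, b, u} : Set ↥M24) ≤
          Subgroup.centralizer {((m : ↥M24)⁻¹ * n)} := by
        rw [Subgroup.closure_le]
        have key : ∀ y : ↥M24, (m : ↥M24) * y * (m : ↥M24)⁻¹ = n * y * (n : ↥M24)⁻¹ →
            y ∈ Subgroup.centralizer {((m : ↥M24)⁻¹ * n)} := fun y hy => by
          rw [Subgroup.mem_centralizer_singleton_iff]
          have := congrArg (fun t => (m : ↥M24)⁻¹ * t * n) hy
          simpa [mul_assoc] using this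
        simp only [Set.insert_subset_iff, Set.singleton_subset_iff, SetLike.mem_coe]
        simp only [f, Prod.mk.injEq, Subtype.mk.injEq] at hmn
        refine ⟨key d hmn.2.2, key c hmn.2.1, key b hmn.1, key u ?_⟩
        rw [hcu _ m.2, hcu _ n.2, mul_inv_cancel_right, mul_inv_cancel_right]
      exact (Subgroup.mem_centralizer_singleton_iff.1 (hz hy)).symm
    refine (inv_mul_eq_one.1 (Subtype.ext (Subtype.ext ?_)) : m = n)
    show ((m : ↥M24)⁻¹ * n : Equiv.Perm GolayPt) = 1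
    refine S5425.eq_one_of_fix_compl ho (mul_mem (inv_mem (m : ↥M24).2) (n : ↥M24).2) fun q hq => ?_
    obtain ⟨y, hy, hyq⟩ := exists_octad_point ho hp0 hq
    have hy' : (⟨y, (mem_octadFix.1 hy).1⟩ : ↥M24) ∈ fixO o := hy
    have hp : (((m : ↥M24)⁻¹ * n : ↥M24) : Equiv.Perm GolayPt) p0 = p0 :=
      (mul_mem (inv_mem m.2) n.2 : (m : ↥M24)⁻¹ * n ∈ M).2
    have hc := congrArg (fun t : ↥M24 => (t : Equiv.Perm GolayPt) p0) (h1 _ hy')
    simp at hp
    simpa [hp, hyq] using hc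
  have h1 := Nat.card_le_card_of_injective f hinj
  rw [hMcard, Nat.card_prod, Nat.card_prod, natCard_fixO ho] at h1
  omega

/-- Some element of M24 fixing another octad pointwise stabilises `o` without fixing it pointwise. -/
theorem exists_outer {o : Finset GolayPt} (ho : o ∈ octads) :
    ∃ (t u : ↥M24), u ∈ fixO o ∧ t * u * t⁻¹ ∈ stabilizer ↥M24 o ∧ t * u * t⁻¹ ∉ fixO o := by
  classical
  obtain ⟨W, hWo, hW⟩ := Finset.exists_subset_card_eq (show 4 ≤ o.card by rw [ho.2]; norm_num)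
  obtain ⟨e, he⟩ : ∃ e, e ∉ o := by
    by_contra! h
    have h8 := ho.2
    rw [Finset.eq_univ_iff_forall.mpr h, Finset.card_univ] at h8
    exact absurd h8 (by decide)
  obtain ⟨o', ho', hsub⟩ := exists_octad
    (s := insert e W) (by rw [Finset.card_insert_of_notMem (fun h => he (hWo h)), hW])
  have heo' : e ∈ o' := hsub (Finset.mem_insert_self _ _)
  have hne : o' ≠ o := fun h => he (h ▸ heo')
  have hWsub : W ⊆ o ∩ o' := Finset.subset_inter hWo ((Finset.subset_insert _ _).trans hsub)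
  have h4 : (o ∩ o').card = 4 := by
    have hle := Finset.card_le_card hWsub
    rw [hW] at hle
    rcases octad_inter_octad ho ho' with h | h | h | h
    · omega
    · omega
    · exact h
    · exact absurd h.symm hne
  have hd : (o \ o').card = 4 := by
    have := Finset.card_sdiff_add_card_inter o o'
    rw [ho.2, h4] at this
    omega
  obtain ⟨x, hx, y, hy, hxy⟩ := Finset.one_lt_card.1 (show 1 < (o \ o').card by omega)
  rw [Finset.mem_sdiff] at hx hy
  obtain ⟨g, hg, hgx⟩ := exists_octad_point ho' hx.2 hy.2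
  have hgo : g • o = o := by
    refine octad_eq_of_five (smul_mem_octads (mem_octadFix.1 hg).1 ho) ho ?_
    calc 5 = (insert y (o ∩ o')).card := by
          rw [Finset.card_insert_of_notMem (fun h => hy.2 (Finset.mem_inter.1 h).2), h4]
      _ ≤ _ := Finset.card_le_card fun z hz => by
          rw [Finset.mem_inter]
          rcases Finset.mem_insert.1 hz with rfl | hz
          · exact ⟨hgx ▸ Finset.smul_mem_smul_finset (a := g) hx.1, hy.1⟩
          · rw [Finset.mem_inter] at hz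
            exact ⟨(mem_octadFix.1 hg).2 z hz.2 ▸ Finset.smul_mem_smul_finset (a := g) hz.1, hz.1⟩
  obtain ⟨t, ht, hto⟩ := exists_map_octad ho ho'
  have hu := conj_mem_octadFix (o := o) ht (g := g) (by rw [hto]; exact hg)
  refine ⟨⟨t, ht⟩, ⟨_, (mem_octadFix.1 hu).1⟩, hu, ?_, ?_⟩
  · show (t * (t⁻¹ * g * t) * t⁻¹) • o = o
    rw [show t * (t⁻¹ * g * t) * t⁻¹ = g by group, hgo]
  · intro h
    have h1 := mem_fixO.1 h x hx.1
    apply hxy
    rw [← hgx]
    simpa [mul_assoc] using h1.symm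

/-- The data attached to a Sylow 2-subgroup: its octad, and a map onto the Sylow 2-subgroup `P0` of
the alternating group of the octad. -/
theorem exists_setup (S : Sylow 2 ↥M24) : ∃ o ∈ octads, ∃ ρ : ↥(stabilizer ↥M24 o) →* Equiv.Perm (Fin 8),
    ρ.range = alternatingGroup (Fin 8) ∧ (∀ x, ρ x = 1 ↔ (x : ↥M24) ∈ fixO o) ∧
    (∀ a b : ↥o, ∃ i j : Fin 8, ∀ x, ρ x i = j → ((x : ↥M24) : Equiv.Perm GolayPt) a = b) ∧
    ∀ x : ↥M24, x ∈ (S : Subgroup ↥M24) ↔
      ∃ hx : x ∈ stabilizer ↥M24 o, ρ ⟨x, hx⟩ ∈ AltEightSylow.P0 := by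
  classical
  have h2 : Fact (Nat.Prime 2) := ⟨Nat.prime_two⟩
  -- an octad stabilised by S
  obtain ⟨o, ho, hSo⟩ : ∃ o ∈ octads, (S : Subgroup ↥M24) ≤ stabilizer ↥M24 o := by
    let X := {o : Finset GolayPt // o ∈ octads}
    let _ : MulAction ↥M24 X :=
      { smul := fun g o => ⟨(g : Equiv.Perm GolayPt) • o.1, smul_mem_octads g.2 o.2⟩
        one_smul := fun o => Subtype.ext (one_smul _ _)
        mul_smul := fun g h o => Subtype.ext (mul_smul _ _ _) }
    have hX : Nat.card X = 759 := by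
      rw [← ncard_octads]; exact Nat.card_coe_set_eq _
    obtain ⟨o, ho⟩ := S.isPGroup'.nonempty_fixed_point_of_prime_not_dvd_card X (by rw [hX]; norm_num)
    exact ⟨o.1, o.2, fun x hx => congrArg Subtype.val (ho ⟨x, hx⟩)⟩
  refine ⟨o, ho, ?_⟩
  set H := stabilizer ↥M24 o
  let j : ↥H →* ↥(octadStab o) :=
    { toFun := fun x => ⟨((x : ↥M24) : Equiv.Perm GolayPt), (x : ↥M24).2, x.2⟩
      map_one' := rfl
      map_mul' := fun _ _ => rfl }
  have hj : Function.Surjective j := fun x => ⟨⟨⟨x.1, x.2.1⟩, x.2.2⟩, rfl⟩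
  have ho8 : Fintype.card ↥o = 8 := by rw [Fintype.card_coe]; exact ho.2
  let e : ↥o ≃ Fin 8 := Fintype.equivFinOfCardEq ho8
  let ρ0 : ↥H →* Equiv.Perm (Fin 8) := e.permCongrHom.toMonoidHom.comp ((octadRes o).comp j)
  have hrange : ρ0.range = alternatingGroup (Fin 8) := by
    ext g
    constructor
    · rintro ⟨x, rfl⟩
      have hx : octadRes o (j x) ∈ alternatingGroup ↥o := range_octadRes ho ▸ ⟨j x, rfl⟩
      rw [Equiv.Perm.mem_alternatingGroup] at hx ⊢
      exact (Equiv.Perm.sign_permCongr e _).trans hx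
    · intro hg
      have he : e.symm.permCongr g ∈ alternatingGroup ↥o := by
        rw [Equiv.Perm.mem_alternatingGroup] at hg ⊢
        exact (Equiv.Perm.sign_permCongr e.symm g).trans hg
      obtain ⟨y, hy⟩ := octadRes_surjective ho he
      obtain ⟨x, rfl⟩ := hj y
      refine ⟨x, ?_⟩
      show e.permCongr (octadRes o (j x)) = g
      rw [hy]
      ext i; simp
  -- the image of S
  let A := alternatingGroup (Fin 8)
  let ρA : ↥H →* ↥A := ρ0.codRestrict A fun x => (le_of_eq hrange) ⟨x, rfl⟩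
  have hρA : Function.Surjective ρA := fun a => by
    obtain ⟨x, hx⟩ := (hrange.symm ▸ a.2 : (a : Equiv.Perm (Fin 8)) ∈ ρ0.range)
    exact ⟨x, Subtype.ext hx⟩
  let SA : Sylow 2 ↥A := (S.subtype hSo).mapSurjective hρA
  have hA : Nat.card ↥A = 20160 := by
    show Nat.card (alternatingGroup (Fin 8)) = 20160
    have h := two_mul_card_alternatingGroup (α := Fin 8)
    rw [Fintype.card_perm, Fintype.card_fin] at h
    rw [Nat.card_eq_fintype_card]
    norm_num [Nat.factorial, ← Nat.card_eq_fintype_card] at h ⊢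
    omega
  have hP0 : Nat.card (AltEightSylow.P0.subgroupOf A) = 64 := by
    rw [Nat.card_congr (Subgroup.subgroupOfEquivOfLe AltEightSylow.P0_le).toEquiv, AltEightSylow.natCard_P0]
  let PA : Sylow 2 ↥A := (IsPGroup.of_card (n := 6) (by rw [hP0]; rfl)).toSylow (by
    have h := (AltEightSylow.P0.subgroupOf A).card_mul_index
    rw [hP0, hA] at h
    omega)
  obtain ⟨c, hc⟩ := exists_smul_eq ↥A SA PA
  let ρ : ↥H →* Equiv.Perm (Fin 8) := (MulAut.conj (c : Equiv.Perm (Fin 8))).toMonoidHom.comp ρ0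
  have hker : ∀ x, ρ x = 1 ↔ (x : ↥M24) ∈ fixO o := by
    intro x
    show MulAut.conj (c : Equiv.Perm (Fin 8)) (e.permCongrHom (octadRes o (j x))) = 1 ↔ _
    rw [map_eq_one_iff _ (MulEquiv.injective _), map_eq_one_iff _ (MulEquiv.injective _),
      ← MonoidHom.mem_ker, mem_ker_octadRes]
    exact Iff.rfl
  refine ⟨ρ, ?_, hker, ?_, ?_⟩
  · show ((MulAut.conj (c : Equiv.Perm (Fin 8))).toMonoidHom.comp ρ0).range = _
    rw [MonoidHom.range_comp, hrange]
    ext g
    rw [Subgroup.mem_map]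
    constructor
    · rintro ⟨y, hy, rfl⟩
      exact (alternatingGroup.normal (α := Fin 8)).conj_mem y hy _
    · intro hg
      refine ⟨(c : Equiv.Perm (Fin 8))⁻¹ * g * c, ?_, by simp [mul_assoc]⟩
      simpa using (alternatingGroup.normal (α := Fin 8)).conj_mem g hg (c : Equiv.Perm (Fin 8))⁻¹
  · intro a b
    refine ⟨(c : Equiv.Perm (Fin 8)) (e a), (c : Equiv.Perm (Fin 8)) (e b), fun x hx => ?_⟩
    have h : (c : Equiv.Perm (Fin 8)) (e (octadRes o (j x) (e.symm
        ((c : Equiv.Perm (Fin 8))⁻¹ ((c : Equiv.Perm (Fin 8)) (e a)))))) =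
        (c : Equiv.Perm (Fin 8)) (e b) := hx
    rw [EmbeddingLike.apply_eq_iff_eq, EmbeddingLike.apply_eq_iff_eq] at h
    have h' := congrArg Subtype.val h
    simpa [octadRes_apply, j] using h'
  · -- S is the whole preimage
    have himage : ∀ x (hx : x ∈ H), (x ∈ (S : Subgroup ↥M24) → ρ ⟨x, hx⟩ ∈ AltEightSylow.P0) := by
      intro x hx hxS
      have h1 : ρA ⟨x, hx⟩ ∈ (SA : Subgroup ↥A) := ⟨⟨x, hx⟩, hxS, rfl⟩
      have h3 : c * ρA ⟨x, hx⟩ * c⁻¹ ∈ (PA : Subgroup ↥A) := by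
        rw [← hc, Sylow.coe_subgroup_smul]
        exact ⟨_, h1, rfl⟩
      exact h3
    intro x
    refine ⟨fun hx => ⟨hSo hx, himage x _ hx⟩, ?_⟩
    rintro ⟨hx, hρx⟩
    have hE : fixO o ≤ (S : Subgroup ↥M24) := by
      have h1 : IsPGroup 2 ↥(fixO o) := IsPGroup.of_card (n := 4) (by rw [natCard_fixO ho]; rfl)
      have hn : (S : Subgroup ↥M24) ≤ Subgroup.normalizer (fixO o : Set ↥M24) := by
        intro s hs
        rw [Subgroup.mem_normalizer_iff]
        intro n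
        exact ⟨conj_fixO (hSo hs), fun hh => by
          simpa [mul_assoc] using conj_fixO (inv_mem (hSo hs)) hh⟩
      have h2 : IsPGroup 2 ↥((fixO o) ⊔ (S : Subgroup ↥M24)) :=
        h1.to_sup_of_normal_left' S.isPGroup' hn
      exact le_sup_left.trans (S.is_maximal' h2 le_sup_right).le
    -- lift ρx inside S
    have h4 : c⁻¹ * (⟨ρ ⟨x, hx⟩, AltEightSylow.P0_le hρx⟩ : ↥A) * c ∈ (SA : Subgroup ↥A) := by
      have h5 : (⟨ρ ⟨x, hx⟩, AltEightSylow.P0_le hρx⟩ : ↥A) ∈ (PA : Subgroup ↥A) := hρx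
      rw [← hc, Sylow.coe_subgroup_smul] at h5
      obtain ⟨y, hy, hye⟩ := h5
      rw [← hye]
      show c⁻¹ * (c * y * c⁻¹) * c ∈ _
      rw [show c⁻¹ * (c * y * c⁻¹) * c = y by group]
      exact hy
    obtain ⟨⟨s, hsH⟩, hs, hse⟩ := h4
    have hse' : ρ0 ⟨s, hsH⟩ = ρ0 ⟨x, hx⟩ := by
      have := congrArg Subtype.val hse
      simpa [ρA, ρ, mul_assoc] using this
    have hk : ρ (⟨s, hsH⟩⁻¹ * ⟨x, hx⟩) = 1 := by
      show MulAut.conj (c : Equiv.Perm (Fin 8)) (ρ0 _) = 1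
      rw [map_mul, map_inv, hse', inv_mul_cancel, map_one]
    have h6 : s⁻¹ * x ∈ fixO o := (hker _).1 hk
    have h7 : s ∈ (S : Subgroup ↥M24) := hs
    simpa using mul_mem h7 (hE h6)

/-- Sylow 2-subgroups of M24 are self-normalising. -/
theorem normalizer_eq (S : Sylow 2 ↥M24) :
    Subgroup.normalizer ((S : Subgroup ↥M24) : Set ↥M24) = (S : Subgroup ↥M24) := by
  classical
  obtain ⟨o, ho, ρ, hrange, hker, hpt, hS⟩ := exists_setup S
  refine le_antisymm (fun g hg => ?_) Subgroup.le_normalizer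
  rw [Subgroup.mem_normalizer_iff] at hg
  -- orbits of S: the octad and its complement
  have hin : ∀ a ∈ o, ∀ b ∈ o, ∃ s ∈ (S : Subgroup ↥M24), (s : Equiv.Perm GolayPt) a = b := by
    intro a ha b hb
    obtain ⟨i, j, hij⟩ := hpt ⟨a, ha⟩ ⟨b, hb⟩
    obtain ⟨π, hπ, hπi⟩ := AltEightSylow.transitive i j
    obtain ⟨x, hx⟩ := (hrange.symm ▸ AltEightSylow.P0_le hπ : π ∈ ρ.range)
    exact ⟨x, (hS x).2 ⟨x.2, by rw [show ρ ⟨x, x.2⟩ = π from hx]; exact hπ⟩, hij x (hx ▸ hπi)⟩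
  have hout : ∀ a ∉ o, ∀ b ∉ o, ∃ s ∈ (S : Subgroup ↥M24), (s : Equiv.Perm GolayPt) a = b := by
    intro a ha b hb
    obtain ⟨y, hy, hyab⟩ := exists_octad_point ho ha hb
    refine ⟨⟨y, (mem_octadFix.1 hy).1⟩, (hS _).2 ⟨fixO_le hy, ?_⟩, hyab⟩
    rw [(hker ⟨⟨y, (mem_octadFix.1 hy).1⟩, fixO_le hy⟩).2 hy]
    exact one_mem _
  set o' := (g : Equiv.Perm GolayPt) • o
  have hinv : ∀ s ∈ (S : Subgroup ↥M24), ∀ p ∈ o', (s : Equiv.Perm GolayPt) p ∈ o' := by
    intro s hs p hp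
    obtain ⟨q, hq, rfl⟩ := Finset.mem_smul_finset.1 hp
    have h1 : g⁻¹ * s * g ∈ (S : Subgroup ↥M24) := (hg _).2 (by simpa [mul_assoc] using hs)
    obtain ⟨hH, -⟩ := (hS _).1 h1
    refine Finset.mem_smul_finset.2 ⟨_, (apply_mem_iff hH q).2 hq, ?_⟩
    simp
  have hcard : o'.card = 8 := (Finset.card_smul_finset _ _).trans ho.2
  have hgo : o' = o := by
    refine Finset.eq_of_subset_of_card_le (fun p hp => ?_) (by rw [hcard, ho.2])
    by_contra hpo
    have hsub : oᶜ ⊆ o' := fun b hb => by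
      obtain ⟨s, hs, rfl⟩ := hout p hpo b (Finset.mem_compl.1 hb)
      exact hinv s hs p hp
    have := Finset.card_le_card hsub
    rw [Finset.card_compl, hcard, show o.card = 8 from ho.2] at this
    exact absurd this (by decide)
  have hgH : g ∈ stabilizer ↥M24 o := hgo
  refine (hS g).2 ⟨hgH, AltEightSylow.mem_of_normalizes (hrange ▸ ⟨_, rfl⟩) fun π => ?_⟩
  have key : ∀ h : ↥M24, ∀ hh : h ∈ stabilizer ↥M24 o,
      (∀ x, x ∈ (S : Subgroup ↥M24) → h * x * h⁻¹ ∈ (S : Subgroup ↥M24)) →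
      ∀ π ∈ AltEightSylow.P0, ρ ⟨h, hh⟩ * π * (ρ ⟨h, hh⟩)⁻¹ ∈ AltEightSylow.P0 := by
    intro h hh hcl π hπ
    obtain ⟨x, hx⟩ := (hrange.symm ▸ AltEightSylow.P0_le hπ : π ∈ ρ.range)
    obtain ⟨hH, hP⟩ := (hS _).1 (hcl x ((hS x).2 ⟨x.2, by rw [show ρ ⟨x, x.2⟩ = π from hx]; exact hπ⟩))
    rw [← hx, ← map_inv, ← map_mul, ← map_mul]
    exact hP
  refine ⟨key g hgH (fun x hx => (hg x).1 hx) π, fun hπ => ?_⟩
  have h1 := key g⁻¹ (inv_mem hgH) (fun x hx => (hg _).2 (by simpa [mul_assoc] using hx)) _ hπ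
  rw [show (⟨g⁻¹, inv_mem hgH⟩ : stabilizer ↥M24 o) = ⟨g, hgH⟩⁻¹ from rfl, map_inv] at h1
  simpa [mul_assoc] using h1

/-- A Sylow 2-subgroup of M24 has no proper nontrivial subgroup closed under conjugation. -/
theorem closed_eq (S : Sylow 2 ↥M24) {T : Subgroup ↥M24} (hTS : T ≤ (S : Subgroup ↥M24))
    (hcl : ∀ (g x : ↥M24), x ∈ T → g * x * g⁻¹ ∈ (S : Subgroup ↥M24) → g * x * g⁻¹ ∈ T)
    (hne : T ≠ ⊥) : T = (S : Subgroup ↥M24) := by
  classical
  obtain ⟨o, ho, ρ, hrange, hker, -, hS⟩ := exists_setup S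
  have hES : fixO o ≤ (S : Subgroup ↥M24) := fun x hx =>
    (hS x).2 ⟨fixO_le hx, by rw [(hker _).2 hx]; exact one_mem _⟩
  have hSH : (S : Subgroup ↥M24) ≤ stabilizer ↥M24 o := fun x hx => ((hS x).1 hx).1
  have hTnorm : ∀ s ∈ (S : Subgroup ↥M24), ∀ x ∈ T, s * x * s⁻¹ ∈ T := fun s hs x hx =>
    hcl s x hx (mul_mem (mul_mem hs (hTS hx)) (inv_mem hs))
  -- T contains the pointwise stabiliser of the octad
  have hTE : T ⊓ fixO o ≠ ⊥ := by
    intro hbot
    obtain ⟨x, hxT, hx1⟩ := (T.bot_or_exists_ne_one).resolve_left hne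
    have hcomm : ∀ y ∈ fixO o, x * y = y * x := by
      intro y hy
      have h1 : x * y * x⁻¹ * y⁻¹ ∈ T ⊓ fixO o :=
        ⟨by
          rw [show x * y * x⁻¹ * y⁻¹ = x * (y * x⁻¹ * y⁻¹) by group]
          exact mul_mem hxT (hTnorm y (hES hy) _ (inv_mem hxT)),
        show _ from Subgroup.mul_mem (fixO o) (conj_fixO (hSH (hTS hxT)) hy) (Subgroup.inv_mem (fixO o) hy)⟩
      rw [hbot, Subgroup.mem_bot] at h1
      exact mul_inv_eq_iff_eq_mul.1 (mul_inv_eq_one.1 h1)
    obtain ⟨p, hp⟩ : ∃ p, p ∉ o := by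
      by_contra! h
      have h8 := ho.2
      rw [Finset.eq_univ_iff_forall.mpr h, Finset.card_univ] at h8
      exact absurd h8 (by decide)
    have hxp : (x : Equiv.Perm GolayPt) p ∉ o := fun h => hp ((apply_mem_iff (hSH (hTS hxT)) p).1 h)
    obtain ⟨y, hy, hyp⟩ := exists_octad_point ho hxp hp
    set y' : ↥M24 := ⟨y, (mem_octadFix.1 hy).1⟩
    have hy' : y' ∈ fixO o := hy
    have hone : ((y' * x : ↥M24) : Equiv.Perm GolayPt) = 1 := by
      refine S5425.eq_one_of_fix_compl ho (y' * x).2 fun q hq => ?_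
      obtain ⟨w, hw, rfl⟩ := exists_octad_point ho hp hq
      set w' : ↥M24 := ⟨w, (mem_octadFix.1 hw).1⟩
      have hw' : w' ∈ fixO o := hw
      have hc : y' * x * w' = w' * (y' * x) := by
        rw [mul_assoc, hcomm w' hw', ← mul_assoc, ← mul_assoc, fixO_comm ho hy' hw']
      have := congrArg (fun t : ↥M24 => (t : Equiv.Perm GolayPt) p) hc
      simpa [hyp, y', w'] using this
    have hxE : x ∈ fixO o := by
      rw [show x = y'⁻¹ from eq_inv_of_mul_eq_one_right (Subtype.ext hone)]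
      exact inv_mem hy'
    exact hx1 (Subgroup.mem_bot.1 (hbot ▸ (⟨hxT, hxE⟩ : x ∈ T ⊓ fixO o)))
  have hET : fixO o ≤ T := by
    have h := fixO_minimal ho (F := T ⊓ fixO o) inf_le_right (fun h hh x hx =>
      ⟨hcl h x hx.1 (hES (conj_fixO hh hx.2)), conj_fixO hh hx.2⟩) hTE
    exact h ▸ inf_le_left
  -- an element of T outside it
  have h2 : Fact (Nat.Prime 2) := ⟨Nat.prime_two⟩
  obtain ⟨t, u, hu, hw, hwE⟩ := exists_outer ho
  set w := t * u * t⁻¹
  obtain ⟨h, hhw⟩ : ∃ h : ↥(stabilizer ↥M24 o),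
      (h : ↥M24) * w * (h : ↥M24)⁻¹ ∈ (S : Subgroup ↥M24) := by
    let SH : Sylow 2 ↥(stabilizer ↥M24 o) := S.subtype hSH
    have hP : IsPGroup 2 ↥(Subgroup.zpowers (⟨w, hw⟩ : stabilizer ↥M24 o)) := by
      have hsq : orderOf (⟨w, hw⟩ : stabilizer ↥M24 o) ∣ 2 ^ 1 := orderOf_dvd_of_pow_eq_one (Subtype.ext (by
        show w ^ 2 ^ 1 = 1
        rw [pow_one, conj_pow, sq, show u * u = 1 from Subtype.ext (mul_self_octadFix ho hu), mul_one,
          mul_inv_cancel]))
      obtain ⟨k, -, hk⟩ := (Nat.dvd_prime_pow Nat.prime_two).1 hsq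
      exact IsPGroup.of_card (n := k) (by rw [Nat.card_zpowers, hk])
    obtain ⟨Q, hQ⟩ := hP.exists_le_sylow
    obtain ⟨h, hh⟩ := exists_smul_eq ↥(stabilizer ↥M24 o) Q SH
    refine ⟨h, ?_⟩
    have : h * ⟨w, hw⟩ * h⁻¹ ∈ (SH : Subgroup ↥(stabilizer ↥M24 o)) := by
      rw [← hh, Sylow.coe_subgroup_smul]
      exact ⟨_, hQ (Subgroup.mem_zpowers _), rfl⟩
    exact this
  set v := (h : ↥M24) * w * (h : ↥M24)⁻¹
  have hvT : v ∈ T := by
    have : v = ((h : ↥M24) * t) * u * ((h : ↥M24) * t)⁻¹ := by simp [v, w, mul_assoc]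
    rw [this] at hhw ⊢
    exact hcl _ u (hET hu) hhw
  have hvE : v ∉ fixO o := fun hv => hwE (by
    simpa [v, mul_assoc] using conj_fixO (inv_mem h.2) hv)
  -- the image of T in the alternating group of the octad
  set N := (T.subgroupOf (stabilizer ↥M24 o)).map ρ
  have hNle : N ≤ AltEightSylow.P0 := by
    rintro _ ⟨x, hx, rfl⟩
    exact ((hS _).1 (hTS hx)).2
  have hNne : N ≠ ⊥ := fun hb => hvE ((hker ⟨v, hSH hhw⟩).1
    (Subgroup.mem_bot.1 (hb ▸ ⟨⟨v, hSH hhw⟩, hvT, rfl⟩ : ρ ⟨v, hSH hhw⟩ ∈ (⊥ : Subgroup _))))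
  have hzc : AltEightSylow.zc ∈ N := by
    refine AltEightSylow.zc_mem_of_invariant N hNle ?_ hNne
    rintro π hπ _ ⟨x, hx, rfl⟩
    obtain ⟨s, rfl⟩ := (hrange.symm ▸ AltEightSylow.P0_le hπ : π ∈ ρ.range)
    exact ⟨s * x * s⁻¹, hTnorm s ((hS s).2 ⟨s.2, hπ⟩) x hx, by simp⟩
  have hgenN : AltEightSylow.P0 ≤ N := by
    rw [AltEightSylow.P0, Subgroup.closure_le]
    rintro _ ⟨i, rfl⟩
    obtain ⟨z, hz, hzρ⟩ := hzc
    obtain ⟨c, hc⟩ := (hrange.symm ▸ AltEightSylow.cnj_mem i : AltEightSylow.cnj i ∈ ρ.range)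
    have h1 : ρ (c * z * c⁻¹) = AltEightSylow.gen i := by
      rw [map_mul, map_mul, map_inv, hzρ, hc, AltEightSylow.cnj_conj]
    refine ⟨c * z * c⁻¹, hcl (c : ↥M24) (z : ↥M24) hz ((hS _).2 ⟨(c * z * c⁻¹).2, ?_⟩), h1⟩
    exact h1.symm ▸ AltEightSylow.gen_mem i
  refine le_antisymm hTS fun s hs => ?_
  obtain ⟨hsH, hsP⟩ := (hS s).1 hs
  obtain ⟨x, hxT, hxρ⟩ := hgenN hsP
  have hk : ρ (x⁻¹ * ⟨s, hsH⟩) = 1 := by rw [map_mul, map_inv, hxρ, inv_mul_cancel]
  simpa using mul_mem (show (x : ↥M24) ∈ T from hxT) (hET ((hker _).1 hk))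

end Cfsg.Agent.M24SylowTwo
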